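import Groth.Agent.L29.Dual.FlatBC
import Groth.Agent.L10.DRing.PD
import Groth.Agent.L10.DRing.Coherent
import Groth.Agent.L29.Dual.InvertibleTwist
import Mathlib.Algebra.Order.BigOperators.Group.LocallyFinite
import Mathlib.Data.Int.Interval

/-!
Isomorphisms of perfect complexes spread from a prime to a basic open.
-/

set_option autoImplicit false
set_option backward.defeqAttrib.useBackward true
set_option maxSynthPendingDepth 3

universe u

open CategoryTheory CategoryTheory.Limits CategoryTheory.Pretriangulated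
open scoped TensorProduct ZeroObject

attribute [local instance] HasDerivedCategory.standard

set_option backward.isDefEq.respectTransparency false
set_option linter.style.haveILetI false

namespace Groth.L29.SpreadIso

variable {S : Type u} [CommRing S] [IsNoetherianRing S]

theorem bounded_finite_of_perfect {K : Dual.D S} (h : DRing.IsPerfect S K) :
    (∃ a b : ℤ, ∀ i : ℤ, (i < a ∨ b < i) → Subsingleton (Dual.HD S K i)) ∧ ∀ i : ℤ, Module.Finite S (Dual.HD S K i) := by
  refine ⟨?_, fun i => ?_⟩
  · obtain ⟨E, a, b, hv, -, ⟨e⟩⟩ := h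
    exact ⟨a, b, fun i hi => ModuleCat.subsingleton_of_isZero ((Groth.L10.DR.HH_iso_zero e i).2
      ((E.exactAt_iff_isZero_homology i).1 (HomologicalComplex.ExactAt.of_isZero (hv i hi))))⟩
  · exact (Groth.L10.DR.finite_and_fp_of_pc (fun I hI => by
      haveI := Module.Finite.iff_fg.2 hI; exact Module.finitePresentation_of_finite S I)
      (Groth.L02.PC.pc_of_pc' (Groth.L29.PerfPC.isPseudoCoherent'_of_isPerfect h) i)).1

theorem exists_kill_of_localized {M : Type u} [AddCommGroup M] [Module S M] [Module.Finite S M] (q : Ideal S)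
    [q.IsPrime] [Subsingleton (Localization.AtPrime q ⊗[S] M)] : ∃ h : S, h ∉ q ∧ ∀ m : M, h • m = 0 := by
  classical
  haveI : IsLocalizedModule q.primeCompl (TensorProduct.mk S (Localization.AtPrime q) M 1) :=
    (isLocalizedModule_iff_isBaseChange q.primeCompl (Localization.AtPrime q) _).2
      (TensorProduct.isBaseChange S _ (Localization.AtPrime q))
  have hk : ∀ m : M, ∃ c : q.primeCompl, c • m = 0 := fun m =>
    (IsLocalizedModule.eq_zero_iff q.primeCompl (TensorProduct.mk S (Localization.AtPrime q) M 1)).1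
      (Subsingleton.elim _ _)
  choose c hc using hk
  obtain ⟨T, hT⟩ := (Module.Finite.fg_top : (⊤ : Submodule S M).FG)
  refine ⟨∏ m ∈ T, (c m : S), fun hm => ?_, fun m => ?_⟩
  · have : (∏ m ∈ T, (c m : S)) ∈ q.primeCompl := Submonoid.prod_mem _ fun k _ => (c k).2
    exact this hm
  · have hmem : m ∈ Submodule.span S (T : Set M) := hT.symm ▸ Submodule.mem_top
    induction hmem using Submodule.span_induction with
    | mem x hx =>
      obtain ⟨d, hd⟩ := Finset.dvd_prod_of_mem (fun m => (c m : S)) (Finset.mem_coe.1 hx)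
      rw [hd, mul_comm, mul_smul, ← Submonoid.smul_def, hc, smul_zero]
    | zero => exact smul_zero _
    | add x y _ _ hx hy => rw [smul_add, hx, hy, add_zero]
    | smul r x _ hx => rw [smul_comm, hx, smul_zero]

/-- An isomorphism of perfect complexes at a prime spreads to every small enough basic open. -/
theorem exists_iso_away {X W : Dual.D S} (hX : DRing.IsPerfect S X) (hW : DRing.IsPerfect S W) (q : Ideal S) [q.IsPrime]
    [Module.Flat S (Localization.AtPrime q)]
    (e : (FlatBC.L S (Localization.AtPrime q)).obj X ≅ (FlatBC.L S (Localization.AtPrime q)).obj W) :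
    ∃ h : S, h ∉ q ∧ ∀ (g : S), h ∣ g → ∀ [Module.Flat S (Localization.Away g)],
      Nonempty ((FlatBC.L S (Localization.Away g)).obj X ≅ (FlatBC.L S (Localization.Away g)).obj W) := by
  classical
  let L := Localization.AtPrime q
  obtain ⟨⟨a₁, b₁, hX0⟩, hXf⟩ := bounded_finite_of_perfect hX
  obtain ⟨⟨a₂, b₂, hW0⟩, -⟩ := bounded_finite_of_perfect hW
  haveI : X.IsGE a₁ := (DerivedCategory.isGE_iff X a₁).2 fun i hi =>
    haveI := hX0 i (Or.inl hi); ModuleCat.isZero_of_subsingleton _
  haveI : X.IsLE b₁ := (DerivedCategory.isLE_iff X b₁).2 fun i hi =>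
    haveI := hX0 i (Or.inr hi); ModuleCat.isZero_of_subsingleton _
  haveI : W.IsGE a₂ := (DerivedCategory.isGE_iff W a₂).2 fun i hi =>
    haveI := hW0 i (Or.inl hi); ModuleCat.isZero_of_subsingleton _
  have hθ : FlatBC.Iso' L X W := FlatBC.iso'_of_iso ((shiftFunctorZero (Dual.D S) ℤ).app X)
    (FlatBC.allShift_bounded W a₂ X a₁ b₁ hXf 0)
  obtain ⟨t, ht⟩ := hθ.2 e.hom
  haveI : IsLocalizedModule q.primeCompl (TensorProduct.mk S L (X ⟶ W) 1) :=
    (isLocalizedModule_iff_isBaseChange q.primeCompl L _).2 (TensorProduct.isBaseChange S _ L)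
  obtain ⟨⟨ψ, s⟩, hs⟩ := IsLocalizedModule.surj q.primeCompl (TensorProduct.mk S L (X ⟶ W) 1) t
  have hψ : algebraMap S L (s : S) • e.hom = (FlatBC.L S L).map ψ := by
    rw [← ht, ← map_smul, show algebraMap S L (s : S) • t = (1 : L) ⊗ₜ[S] ψ from (algebraMap_smul _ _ t).trans hs,
      FlatBC.theta_tmul, one_smul]
  obtain ⟨v, hv⟩ := (IsLocalization.map_units L s).exists_left_inv
  haveI : IsIso ((FlatBC.L S L).map ψ) := by
    rw [← hψ]
    exact ⟨v • e.inv, by rw [Linear.smul_comp, Linear.comp_smul, smul_smul, mul_comm, hv, one_smul, e.hom_inv_id],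
      by rw [Linear.smul_comp, Linear.comp_smul, smul_smul, hv, one_smul, e.inv_hom_id]⟩
  obtain ⟨C, α, β, hT⟩ := Pretriangulated.distinguished_cocone_triangle ψ
  have hC : DRing.IsPerfect S C := Groth.L29.Perfect.third _ hT hX hW
  obtain ⟨⟨a, b, hC0⟩, hCf⟩ := bounded_finite_of_perfect hC
  have hCL : IsZero ((FlatBC.L S L).obj C) :=
    (Triangle.isZero₃_iff_isIso₁ _ ((FlatBC.L S L).map_distinguished _ hT)).2 (inferInstanceAs (IsIso ((FlatBC.L S L).map ψ)))
  have hk : ∀ i, ∃ h : S, h ∉ q ∧ ∀ m : Dual.HD S C i, h • m = 0 := fun i => by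
    haveI := hCf i
    haveI : Subsingleton (Dual.HD L ((FlatBC.L S L).obj C) i) :=
      ModuleCat.subsingleton_of_isZero (Functor.map_isZero _ hCL)
    haveI : Subsingleton (L ⊗[S] Dual.HD S C i) := (FlatBC.hEquiv S L C i).symm.toEquiv.subsingleton
    exact exists_kill_of_localized q
  choose h hh hkill using hk
  refine ⟨∏ i ∈ Finset.Icc a b, h i, fun hm => ?_, fun g hg => ?_⟩
  · have : (∏ i ∈ Finset.Icc a b, h i) ∈ q.primeCompl := Submonoid.prod_mem _ fun i _ => hh i
    exact this hm
  intro _
  let B := Localization.Away g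
  have hCg : IsZero ((FlatBC.L S B).obj C) := by
    suffices hh : ∀ i, IsZero ((DerivedCategory.homologyFunctor (ModuleCat.{u} B) i).obj ((FlatBC.L S B).obj C)) by
      haveI : IsIso (0 : (FlatBC.L S B).obj C ⟶ (0 : Dual.D B)) :=
        (DerivedCategory.isIso_iff (ModuleCat.{u} B) _).2 fun i => isIso_of_source_target_iso_zero _ (hh i).isoZero
          ((DerivedCategory.homologyFunctor _ i).map_isZero (Limits.isZero_zero _)).isoZero
      exact (Limits.isZero_zero _).of_iso (asIso (0 : (FlatBC.L S B).obj C ⟶ (0 : Dual.D B)))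
    intro i
    suffices Subsingleton (B ⊗[S] Dual.HD S C i) by
      haveI : Subsingleton (Dual.HD B ((FlatBC.L S B).obj C) i) := (FlatBC.hEquiv S B C i).toEquiv.subsingleton
      exact ModuleCat.isZero_of_subsingleton _
    by_cases hi : i < a ∨ b < i
    · haveI := hC0 i hi
      infer_instance
    · obtain ⟨d, hd⟩ := (Finset.dvd_prod_of_mem h (Finset.mem_Icc.2 (by omega : a ≤ i ∧ i ≤ b))).trans hg
      have hu : IsUnit (algebraMap S B g) := IsLocalization.Away.algebraMap_isUnit g
      refine subsingleton_of_forall_eq 0 fun z => hu.smul_eq_zero.1 ?_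
      rw [algebraMap_smul]
      induction z using TensorProduct.induction_on with
      | zero => exact smul_zero _
      | tmul x m =>
        have hm : g • m = 0 := by rw [hd, mul_comm, mul_smul, hkill, smul_zero]
        rw [← TensorProduct.tmul_smul, hm, TensorProduct.tmul_zero]
      | add x y hx hy => rw [smul_add, hx, hy, add_zero]
  haveI : IsIso ((FlatBC.L S B).map ψ) :=
    (Triangle.isZero₃_iff_isIso₁ _ ((FlatBC.L S B).map_distinguished _ hT)).1 hCg
  exact ⟨asIso ((FlatBC.L S B).map ψ)⟩

end Groth.L29.SpreadIso
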