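import Groth.Agent.L29.Spread.Iso
import Groth.Prelude.Def_Koszul
import Groth.Agent.L04.DepthLoc
import Groth.Agent.L20.FlatLocusOpen
import Mathlib.Algebra.Homology.Linear

/-!
Koszul complexes under base change and under rescaling of the sequence by units.
-/

set_option autoImplicit false
set_option backward.defeqAttrib.useBackward true
set_option maxSynthPendingDepth 3

universe u

open CategoryTheory CategoryTheory.Limits
open scoped TensorProduct

attribute [local instance] HasDerivedCategory.standard

set_option backward.isDefEq.respectTransparency false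
set_option linter.style.haveILetI false

namespace Groth.L29.SpreadIso

variable {A : Type u} [CommRing A]

/-- cones of compatible endomorphisms -/
theorem nonempty_coneIso {K L : CochainComplex (ModuleCat.{u} A) ℤ} (e₁ e₂ : K ≅ L) (φ : K ⟶ K) (ψ : L ⟶ L)
    (h : φ ≫ e₂.hom = e₁.hom ≫ ψ) :
    Nonempty (CochainComplex.mappingCone φ ≅ CochainComplex.mappingCone ψ) :=
  ⟨{ hom := CochainComplex.mappingCone.map φ ψ e₁.hom e₂.hom h
     inv := CochainComplex.mappingCone.map ψ φ e₁.inv e₂.inv (by
      rw [Iso.eq_inv_comp, ← Category.assoc, ← h, Category.assoc, Iso.hom_inv_id, Category.comp_id])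
     hom_inv_id := by
      rw [← CochainComplex.mappingCone.map_comp]
      simp only [Iso.hom_inv_id, CochainComplex.mappingCone.map_id]
     inv_hom_id := by
      rw [← CochainComplex.mappingCone.map_comp]
      simp only [Iso.inv_hom_id, CochainComplex.mappingCone.map_id] }⟩

theorem nonempty_koszul_associated {l l' : List A} (h : List.Forall₂ Associated l l') :
    Nonempty (Koszul.koszul A l ≅ Koszul.koszul A l') := by
  induction h with
  | nil => exact ⟨Iso.refl _⟩
  | @cons f f' l l' hf _ ih =>
    obtain ⟨e⟩ := ih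
    obtain ⟨u, rfl⟩ := hf
    let e₂ : Koszul.koszul A l ≅ Koszul.koszul A l' :=
      { hom := (u : A) • e.hom
        inv := ((u⁻¹ : Aˣ) : A) • e.inv
        hom_inv_id := by rw [Linear.smul_comp, Linear.comp_smul, smul_smul, Units.mul_inv, one_smul, e.hom_inv_id]
        inv_hom_id := by rw [Linear.smul_comp, Linear.comp_smul, smul_smul, Units.inv_mul, one_smul, e.inv_hom_id] }
    refine nonempty_coneIso e e₂ (f • 𝟙 (Koszul.koszul A l)) ((f * (u : A)) • 𝟙 (Koszul.koszul A l')) ?_
    show (f • 𝟙 (Koszul.koszul A l)) ≫ ((u : A) • e.hom) = e.hom ≫ ((f * (u : A)) • 𝟙 (Koszul.koszul A l'))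
    rw [Linear.smul_comp, Category.id_comp, Linear.comp_smul, Category.comp_id, smul_smul]

theorem ofList_eq_of_associated {l l' : List A} (h : List.Forall₂ Associated l l') :
    Ideal.ofList l = Ideal.ofList l' := by
  induction h with
  | nil => rfl
  | @cons f f' l l' hf _ ih =>
    obtain ⟨u, rfl⟩ := hf
    rw [Ideal.ofList_cons, Ideal.ofList_cons, ih, Ideal.span_singleton_mul_right_unit u.isUnit]

theorem forall₂_mk' {B : Type u} [CommRing B] [Algebra A B] (M : Submonoid A) [IsLocalization M B] :
    ∀ l : List (A × M), List.Forall₂ Associated (l.map fun x => IsLocalization.mk' B x.1 x.2)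
      ((l.map Prod.fst).map (algebraMap A B))
  | [] => List.Forall₂.nil
  | x :: l => List.Forall₂.cons ⟨(IsLocalization.map_units B x.2).unit, IsLocalization.mk'_spec B x.1 x.2⟩
      (forall₂_mk' M l)

variable (B : Type u) [CommRing B] [Algebra A B]

theorem map_smul_id_cx (a : A) (K : CochainComplex (ModuleCat.{u} A) ℤ) :
    ((FlatBC.ext A B).mapHomologicalComplex (ComplexShape.up ℤ)).map (a • 𝟙 K) =
      algebraMap A B a • 𝟙 (((FlatBC.ext A B).mapHomologicalComplex (ComplexShape.up ℤ)).obj K) :=
  HomologicalComplex.hom_ext _ _ fun i => ModuleCat.hom_ext (LinearMap.ext fun z =>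
    (FlatBC.extEquiv A B (K.X i)).injective (by
      refine (FlatBC.extEquiv_natural A B (a • 𝟙 (K.X i)) z).trans ?_
      change (a • (LinearMap.id : (K.X i) →ₗ[A] (K.X i))).baseChange B (FlatBC.extEquiv A B (K.X i) z) =
        FlatBC.extEquiv A B (K.X i) (algebraMap A B a • z)
      rw [map_smul, LinearMap.baseChange_smul, LinearMap.baseChange_id, LinearMap.smul_apply,
        LinearMap.id_apply, algebraMap_smul]))

theorem nonempty_koszul_baseChange : ∀ l : List A,
    Nonempty (((FlatBC.ext A B).mapHomologicalComplex (ComplexShape.up ℤ)).obj (Koszul.koszul A l) ≅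
      Koszul.koszul B (l.map (algebraMap A B)))
  | [] => ⟨(HomologicalComplex.singleMapHomologicalComplex (FlatBC.ext A B) (ComplexShape.up ℤ) 0).app (ModuleCat.of A A) ≪≫
      (HomologicalComplex.single (ModuleCat.{u} B) (ComplexShape.up ℤ) 0).mapIso
        ((FlatBC.extEquiv A B (ModuleCat.of A A)).trans (TensorProduct.AlgebraTensorModule.rid A B B)).toModuleIso⟩
  | f :: l => by
    obtain ⟨e⟩ := nonempty_koszul_baseChange l
    obtain ⟨c⟩ := nonempty_coneIso e e
      (((FlatBC.ext A B).mapHomologicalComplex (ComplexShape.up ℤ)).map (f • 𝟙 (Koszul.koszul A l)))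
      (algebraMap A B f • 𝟙 (Koszul.koszul B (l.map (algebraMap A B)))) (by
        rw [map_smul_id_cx]
        rw [Linear.smul_comp, Category.id_comp, Linear.comp_smul, Category.comp_id])
    exact ⟨CochainComplex.mappingCone.mapHomologicalComplexIso (f • 𝟙 (Koszul.koszul A l)) (FlatBC.ext A B) ≪≫ c⟩

theorem nonempty_L_koszul [Module.Flat A B] (l : List A) :
    Nonempty ((FlatBC.L A B).obj (DerivedCategory.Q.obj (Koszul.koszul A l)) ≅
      DerivedCategory.Q.obj (Koszul.koszul B (l.map (algebraMap A B)))) := by
  obtain ⟨e⟩ := nonempty_koszul_baseChange B l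
  exact ⟨(FlatBC.ext A B).mapDerivedCategoryFactors.app (Koszul.koszul A l) ≪≫ DerivedCategory.Q.mapIso e⟩

section Flat

variable {R S : Type u} [CommRing R] [CommRing S] [Algebra R S]

/-- flatness of the quotient of a localization, as flatness of a localized module -/
theorem flat_quot_iff (T : Submonoid S) (L : Type u) [CommRing L] [Algebra S L] [IsLocalization T L] [Algebra R L]
    [IsScalarTower R S L] (J : Ideal S) (K : Ideal L) (hK : J.map (algebraMap S L) = K) :
    Module.Flat R (LocalizedModule T (S ⧸ J)) ↔ Module.Flat R (L ⧸ K) := by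
  subst hK
  haveI : IsLocalizedModule T (TensorProduct.mk S L (S ⧸ J) 1) :=
    (isLocalizedModule_iff_isBaseChange T L _).2 (TensorProduct.isBaseChange S _ L)
  let e : LocalizedModule T (S ⧸ J) ≃ₗ[S] L ⧸ J.map (algebraMap S L) :=
    (IsLocalizedModule.iso T (TensorProduct.mk S L (S ⧸ J) 1)).trans
      ((Algebra.TensorProduct.quotIdealMapEquivTensorQuot L J).symm.toLinearEquiv.restrictScalars S)
  exact ⟨fun h => Module.Flat.of_linearEquiv (e.restrictScalars R).symm,
    fun h => Module.Flat.of_linearEquiv (e.restrictScalars R)⟩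

theorem flat_localized_powers_of_dvd {M : Type u} [AddCommGroup M] [Module R M] [Module S M] [IsScalarTower R S M]
    {h g : S} (hg : h ∣ g) (hf : Module.Flat R (LocalizedModule (Submonoid.powers h) M)) :
    Module.Flat R (LocalizedModule (Submonoid.powers g) M) := by
  rw [Groth.L20.flat_localizedModule_iff_forall] at hf ⊢
  intro J z hz
  obtain ⟨_, ⟨k, rfl⟩, htz⟩ := hf J z hz
  obtain ⟨d, rfl⟩ := hg
  refine ⟨(h * d) ^ k, ⟨k, rfl⟩, ?_⟩
  rw [mul_pow, mul_comm, mul_smul, htz, smul_zero]

end Flat

end Groth.L29.SpreadIso
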