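import Groth.Agent.S0407
import Groth.Agent.L07.FibreRegularLocal
import Groth.Agent.L29.K.KoszulRes
import Groth.Agent.L29.Dual.LocalInvertible
import Groth.Agent.L10.DRing.LiftCx.Main
import Groth.Agent.L02.Flat

/-!
Lifting complexes which are resolutions on the closed fibre of a flat local map.
-/

set_option autoImplicit false
set_option backward.defeqAttrib.useBackward true
set_option maxSynthPendingDepth 3

universe u

open CategoryTheory CategoryTheory.Limits IsLocalRing
open scoped TensorProduct Pointwise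

attribute [local instance] HasDerivedCategory.standard

set_option backward.isDefEq.respectTransparency false
set_option linter.style.haveILetI false

namespace Groth.L29.LiftKoszul

section InjMod

variable {R B : Type u} [CommRing R] [CommRing B] [IsLocalRing R] [IsLocalRing B] [Algebra R B]
  [IsLocalHom (algebraMap R B)] [Algebra.EssFiniteType R B]

set_option quotPrecheck false in
local notation "mB" => Ideal.map (algebraMap R B) (maximalIdeal R)

omit [IsLocalRing B] [IsLocalHom (algebraMap R B)] [Algebra.EssFiniteType R B] in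
theorem mem_map_smul_iff {M : Type u} [AddCommGroup M] [Module B M] [Module R M] [IsScalarTower R B M] (x : M) :
    x ∈ mB • (⊤ : Submodule B M) ↔ x ∈ maximalIdeal R • (⊤ : Submodule R M) := by
  rw [← Submodule.restrictScalars_mem R, Ideal.smul_restrictScalars, Submodule.restrictScalars_top]

omit [IsLocalRing R] [CommRing B] in
theorem one_tmul_eq_zero {I : Ideal R} {M : Type u} [AddCommGroup M] [Module R M] {x : M}
    (hx : x ∈ I • (⊤ : Submodule R M)) : (1 : R ⧸ I) ⊗ₜ[R] x = 0 := by
  refine Submodule.smul_induction_on hx (fun r hr m _ => ?_) fun a b ha hb => by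
    rw [TensorProduct.tmul_add, ha, hb, add_zero]
  rw [← TensorProduct.smul_tmul, Algebra.smul_def, mul_one, Ideal.Quotient.algebraMap_eq,
    Ideal.Quotient.eq_zero_iff_mem.2 hr, TensorProduct.zero_tmul]

variable {N M : Type u} [AddCommGroup N] [Module B N] [Module R N] [IsScalarTower R B N] [Module.Finite B N]
  [AddCommGroup M] [Module B M] [Module R M] [IsScalarTower R B M] [Module.Flat R M]

/-- injective on the closed fibre implies injective with flat cokernel -/
theorem injective_and_flat (u : N →ₗ[B] M)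
    (h : ∀ x, u x ∈ mB • (⊤ : Submodule B M) → x ∈ mB • (⊤ : Submodule B N)) :
    Function.Injective u ∧ Module.Flat R N ∧ Module.Flat R (M ⧸ LinearMap.range u) := by
  have hinj : Function.Injective (LinearMap.lTensor (ResidueField R) (u.restrictScalars R)) := by
    rw [injective_iff_map_eq_zero]
    intro z hz
    obtain ⟨x, rfl⟩ := TensorProduct.mk_surjective R N (R ⧸ maximalIdeal R) Ideal.Quotient.mk_surjective z
    have hx : (1 : R ⧸ maximalIdeal R) ⊗ₜ[R] u x = 0 := hz
    exact one_tmul_eq_zero ((mem_map_smul_iff x).1 (h x ((mem_map_smul_iff (u x)).2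
      (Groth.L19.ProjNil.mem_smul_top_of_mk_eq_zero _ hx))))
  obtain ⟨huniv, -, hN⟩ := Groth.Agent.S0407.result (B := B) (u.restrictScalars R) hinj
  refine ⟨fun x y hxy => ?_, hN, ?_⟩
  · apply (TensorProduct.rid R N).symm.injective
    apply huniv R
    simp only [TensorProduct.rid_symm_apply, LinearMap.rTensor_tmul, LinearMap.restrictScalars_apply, hxy]
  · let π : M →ₗ[R] M ⧸ LinearMap.range u := (LinearMap.range u).mkQ.restrictScalars R
    have h1 : Function.Exact (u.restrictScalars R) π := fun y =>
      show (LinearMap.range u).mkQ y = 0 ↔ y ∈ Set.range u from LinearMap.exact_map_mkQ_range u y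
    have h2 : Function.Surjective π := fun y => by
      obtain ⟨x, hx⟩ := Submodule.mkQ_surjective (LinearMap.range u) y
      exact ⟨x, hx⟩
    exact Groth.L02.flat_of_exact_of_rTensor_quotient (u.restrictScalars R) π h1 h2 fun I _ => huniv (R ⧸ I)

/-- exactness on the closed fibre lifts, with a flat cokernel -/
theorem exact_and_flat {N₀ : Type u} [AddCommGroup N₀] [Module B N₀] (f : N₀ →ₗ[B] N) (g : N →ₗ[B] M)
    (hfg : g ∘ₗ f = 0)
    (h : ∀ x, g x ∈ mB • (⊤ : Submodule B M) → ∃ y, x - f y ∈ mB • (⊤ : Submodule B N)) :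
    Function.Exact f g ∧ Module.Flat R (M ⧸ LinearMap.range g) := by
  have hle : LinearMap.range f ≤ LinearMap.ker g := by
    rintro _ ⟨y, rfl⟩
    exact LinearMap.congr_fun hfg y
  let u : (N ⧸ LinearMap.range f) →ₗ[B] M := (LinearMap.range f).liftQ g hle
  obtain ⟨hinj, -, hflat⟩ := injective_and_flat (R := R) u fun z hz => by
    obtain ⟨x, rfl⟩ := Submodule.mkQ_surjective _ z
    obtain ⟨y, hy⟩ := h x hz
    have h2 : (LinearMap.range f).mkQ (x - f y) ∈ (mB • (⊤ : Submodule B N)).map (LinearMap.range f).mkQ :=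
      Submodule.mem_map_of_mem hy
    rw [Submodule.map_smul'', map_sub, show (LinearMap.range f).mkQ (f y) = 0 from
      (Submodule.Quotient.mk_eq_zero _).2 ⟨y, rfl⟩, sub_zero] at h2
    exact Submodule.smul_mono le_rfl le_top h2
  refine ⟨fun x => ⟨fun hx => ?_, fun hx => hle hx⟩, ?_⟩
  · exact (Submodule.Quotient.mk_eq_zero _).1 (hinj (show u (Submodule.Quotient.mk x) = u 0 by
      rw [map_zero]; exact hx))
  · have hr : LinearMap.range u = LinearMap.range g := Submodule.range_liftQ _ _ _
    rw [hr] at hflat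
    exact hflat

omit [Module.Finite B N] [AddCommGroup N] [Module B N] [Module R N] [IsScalarTower R B N] in
/-- sequences weakly regular on the closed fibre of a flat finite module -/
theorem isWeaklyRegular_of_fibre : ∀ (l : List B) (M : Type u) [AddCommGroup M] [Module B M] [Module R M]
    [IsScalarTower R B M] [Module.Finite B M] [Module.Flat R M],
    RingTheory.Sequence.IsWeaklyRegular (M ⧸ (mB • (⊤ : Submodule B M))) l →
      RingTheory.Sequence.IsWeaklyRegular M l := by
  intro l
  induction l with
  | nil => exact fun M _ _ _ _ _ _ _ => RingTheory.Sequence.IsWeaklyRegular.nil _ _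
  | cons g t ih =>
    intro M _ _ _ _ _ _ hreg
    obtain ⟨hg, ht⟩ := (RingTheory.Sequence.isWeaklyRegular_cons_iff _ g t).mp hreg
    obtain ⟨hinj, -, hflat⟩ := injective_and_flat (R := R) (LinearMap.lsmul B M g) fun x hx => by
      refine (Submodule.Quotient.mk_eq_zero _).1 (hg.right_eq_zero_of_smul ?_)
      rw [← Submodule.Quotient.mk_smul, Submodule.Quotient.mk_eq_zero]
      exact hx
    have hr : LinearMap.range (LinearMap.lsmul B M g) = g • (⊤ : Submodule B M) := by
      ext x
      rw [Submodule.mem_smul_pointwise_iff_exists]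
      exact ⟨fun ⟨y, hy⟩ => ⟨y, trivial, hy⟩, fun ⟨y, _, hy⟩ => ⟨y, hy⟩⟩
    rw [hr] at hflat
    haveI : Module.Flat R (QuotSMulTop g M) := hflat
    obtain ⟨e⟩ := Groth.L07.FibreRegularLocal.exists_quotSwap M mB g
    exact (RingTheory.Sequence.isWeaklyRegular_cons_iff _ g t).mpr
      ⟨hinj, ih (QuotSMulTop g M) ((e.isWeaklyRegular_congr t).mp ht)⟩

end InjMod

section Single

variable {A : Type u} [CommRing A]

/-- a complex exact away from degree zero and vanishing above is the cokernel in degree zero -/
theorem nonempty_iso_inD (P : DRing.Cx A) (hb : DRing.VanishesAbove P 0)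
    (hex : ∀ a b c : ℤ, a + 1 = b → b + 1 = c → b < 0 → ∀ x, (P.d b c).hom x = 0 → ∃ y, (P.d a b).hom y = x) :
    Nonempty (DRing.toD P ≅ Dual.inD A (P.X 0 ⧸ LinearMap.range (P.d (-1) 0).hom)) := by
  let M : ModuleCat.{u} A := ModuleCat.of A (P.X 0 ⧸ LinearMap.range (P.d (-1) 0).hom)
  let π : P.X 0 ⟶ M := ModuleCat.ofHom (LinearMap.range (P.d (-1) 0).hom).mkQ
  let S := (HomologicalComplex.single (ModuleCat.{u} A) (ComplexShape.up ℤ) 0).obj M
  let f : P ⟶ S := HomologicalComplex.mkHomToSingle π fun i hi => by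
    obtain rfl : i = -1 := by
      have : i + 1 = (0 : ℤ) := hi
      omega
    exact ModuleCat.hom_ext (LinearMap.ext fun x => (Submodule.Quotient.mk_eq_zero _).2 ⟨x, rfl⟩)
  have hS : ∀ i, i ≠ 0 → Subsingleton (S.X i) := fun i hi =>
    ModuleCat.subsingleton_of_isZero (HomologicalComplex.isZero_single_obj_X (ComplexShape.up ℤ) 0 M i hi)
  have hP : ∀ i, 0 < i → Subsingleton (P.X i) := fun i hi => ModuleCat.subsingleton_of_isZero (hb i hi)
  have hf0 : ∀ p, (f.f 0).hom p = (HomologicalComplex.singleObjXSelf (ComplexShape.up ℤ) 0 M).inv.hom (π.hom p) :=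
    fun p => by
      simp only [f, HomologicalComplex.mkHomToSingle_f]
      rfl
  have hq : QuasiIso f := by
    refine Groth.L10.LiftCx.quasiIso_of_coneExact f fun h i j k hhi hij hjk p x hp hpx => ?_
    rcases lt_trichotomy i (-1) with hi | rfl | hi
    · haveI := hS i (by omega)
      obtain ⟨q, hq⟩ := hex i j k hij hjk (by omega) p hp
      exact ⟨q, 0, hq, Subsingleton.elim _ _⟩
    · obtain rfl : j = 0 := by omega
      haveI := hS (-1) (by omega)
      have h0 : π.hom p = 0 := by
        have h1 : (f.f 0).hom p = 0 := hpx.trans (by rw [Subsingleton.elim x 0, map_zero])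
        rw [hf0] at h1
        exact (HomologicalComplex.singleObjXSelf (ComplexShape.up ℤ) 0 M).toLinearEquiv.symm.map_eq_zero_iff.1 h1
      obtain ⟨q, hq⟩ := (Submodule.Quotient.mk_eq_zero _).1 h0
      exact ⟨q, 0, hq, Subsingleton.elim _ _⟩
    · haveI := hP j (by omega)
      rcases eq_or_ne i 0 with rfl | hi0
      · obtain ⟨q, hq⟩ := Submodule.mkQ_surjective _
          ((HomologicalComplex.singleObjXSelf (ComplexShape.up ℤ) 0 M).hom.hom x)
        refine ⟨q, 0, Subsingleton.elim _ _, ?_⟩
        rw [map_zero, add_zero, hf0]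
        show (HomologicalComplex.singleObjXSelf (ComplexShape.up ℤ) 0 M).inv.hom ((LinearMap.range (P.d (-1) 0).hom).mkQ q) = x
        rw [hq]
        exact (HomologicalComplex.singleObjXSelf (ComplexShape.up ℤ) 0 M).toLinearEquiv.symm_apply_apply x
      · haveI := hS i hi0
        exact ⟨0, 0, Subsingleton.elim _ _, Subsingleton.elim _ _⟩
  haveI : IsIso (DerivedCategory.Q.map f) := (DerivedCategory.isIso_Q_map_iff_quasiIso _ f).2 hq
  exact ⟨asIso (DerivedCategory.Q.map f) ≪≫ ((DerivedCategory.singleFunctorIsoCompQ (ModuleCat.{u} A) 0).app M).symm⟩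

end Single

end Groth.L29.LiftKoszul
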