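import Groth.Agent.L29.Spread.LiftKoszul
import Groth.Agent.L20.RG.EssFpToFt
import Mathlib.RingTheory.Localization.Submodule
import Mathlib.RingTheory.EssentialFiniteness
import Mathlib.RingTheory.Ideal.Quotient.Operations

/-!
A perfect complex which is a Koszul complex on the closed fibre of a flat local map is a Koszul complex.
-/

set_option autoImplicit false
set_option backward.defeqAttrib.useBackward true
set_option maxSynthPendingDepth 3

universe u

open CategoryTheory CategoryTheory.Limits IsLocalRing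
open scoped TensorProduct Pointwise

attribute [local instance] HasDerivedCategory.standard

set_option backward.isDefEq.respectTransparency false
set_option linter.style.haveILetI false

namespace Groth.L29.LiftKoszul

open Groth.L10.LiftCx RingTheory.Sequence

theorem exists_lift_koszul {R A : Type u} [CommRing R] [CommRing A] [IsLocalRing R] [IsLocalRing A] [Algebra R A]
    [IsLocalHom (algebraMap R A)] [Algebra.EssFiniteType R A] [Module.Flat R A]
    (fbar : List (A ⧸ ((maximalIdeal R).map (algebraMap R A))))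
    (hfbar : ∀ f ∈ fbar, f ∈ (maximalIdeal A).map (Ideal.Quotient.mk ((maximalIdeal R).map (algebraMap R A))))
    (hreg : IsRegular (A ⧸ ((maximalIdeal R).map (algebraMap R A))) fbar)
    (K : Dual.D A) (hK : DRing.IsPerfect A K)
    [DRing.HasLBaseChange (Ideal.Quotient.mk ((maximalIdeal R).map (algebraMap R A)))]
    (hKf : Nonempty ((DRing.LBaseChange (Ideal.Quotient.mk ((maximalIdeal R).map (algebraMap R A)))).obj K ≅
      DerivedCategory.Q.obj (Koszul.koszul (A ⧸ ((maximalIdeal R).map (algebraMap R A))) fbar))) :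
    ∃ fs : List A, fs.map (Ideal.Quotient.mk ((maximalIdeal R).map (algebraMap R A))) = fbar ∧ IsRegular A fs ∧
      Nonempty (K ≅ DerivedCategory.Q.obj (Koszul.koszul A fs)) ∧
      Module.Flat R (A ⧸ Ideal.span {a : A | a ∈ fs}) := by
  classical
  let I : Ideal A := (maximalIdeal R).map (algebraMap R A)
  let Ab := A ⧸ I
  have hIn : I ≤ maximalIdeal A := IsLocalRing.map_maximalIdeal_le (algebraMap R A)
  haveI : Nontrivial Ab := Ideal.Quotient.nontrivial_iff.2 (ne_top_of_le_ne_top (maximalIdeal.isMaximal A).ne_top hIn)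
  haveI : IsLocalRing Ab := IsLocalRing.of_surjective' (Ideal.Quotient.mk I) Ideal.Quotient.mk_surjective
  letI : Field (R ⧸ maximalIdeal R) := Ideal.Quotient.field _
  haveI : IsNoetherianRing Ab := Algebra.EssFiniteType.isNoetherianRing (R ⧸ maximalIdeal R) (A ⧸ I)
  -- the reversed sequence
  have hmem : ∀ f ∈ fbar, f ∈ maximalIdeal Ab := fun f hf => by
    obtain ⟨a, ha, rfl⟩ := (Ideal.mem_map_iff_of_surjective _ Ideal.Quotient.mk_surjective).1 (hfbar f hf)
    intro hu
    haveI : IsLocalHom (Ideal.Quotient.mk I) := IsLocalHom.of_surjective _ Ideal.Quotient.mk_surjective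
    exact ha (isUnit_of_map_unit (Ideal.Quotient.mk I) a hu)
  have hrev : IsWeaklyRegular Ab fbar.reverse :=
    IsLocalRing.isWeaklyRegular_of_perm_of_subset_maximalIdeal hreg.toIsWeaklyRegular fbar.reverse_perm.symm hmem
  obtain ⟨-, ⟨ek⟩⟩ := Groth.L29.KoszulRes.exists_iso fbar hrev
  -- the minimal model
  obtain ⟨P, b, hb, hfree, ⟨eP⟩, hmin⟩ := Groth.L29.LocalInvertible.exists_minimal K
    (Groth.L29.PerfPC.isPseudoCoherent'_of_isPerfect hK)
  haveI : ∀ i, Module.Finite A (P.X i) := fun i => (hfree i).1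
  haveI : ∀ i, Module.Free A (P.X i) := fun i => (hfree i).2
  haveI := isKProjective_of_vanishesAbove P b hb fun i => Module.Projective.of_free
  let G : DRing.Cx Ab := (redCx I).obj P
  let eG : DRing.toD G ≅ Dual.inD Ab (Ab ⧸ Ideal.ofList fbar) :=
    (Groth.L02.PC.lbcIso _ P).symm ≪≫ (DRing.LBaseChange (Ideal.Quotient.mk I)).mapIso eP ≪≫ hKf.some ≪≫ ek
  have heta : ∀ (i : ℤ) (x : P.X i), x ∈ I • (⊤ : Submodule A (P.X i)) → eta I (P.X i) x = 0 := fun i x hx => by
    refine Submodule.smul_induction_on hx (fun r hr m _ => ?_) fun a c ha hc => by rw [map_add, ha, hc, add_zero]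
    rw [LinearMap.map_smulₛₗ, Ideal.Quotient.eq_zero_iff_mem.2 hr, zero_smul]
  have hexG : ∀ a c d : ℤ, a + 1 = c → c + 1 = d → c ≠ 0 → ∀ y, (G.d c d).hom y = 0 →
      ∃ z, (G.d a c).hom z = y := by
    intro a c d hac hcd hc y hy
    have hz : IsZero (G.homology c) := (Groth.L10.DR.HH_iso_zero eG c).1
      (Groth.L10.DR.isZero_HH_single 0 c (ModuleCat.of Ab (Ab ⧸ Ideal.ofList fbar)) hc)
    have hE := (G.exactAt_iff' a c d (by simp; omega) (by simp; omega)).1
      ((HomologicalComplex.exactAt_iff_isZero_homology _ c).2 hz)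
    exact (ShortComplex.moduleCat_exact_iff _).1 hE y hy
  have hmod : ∀ a c d : ℤ, a + 1 = c → c + 1 = d → c ≠ 0 → ∀ x, (P.d c d).hom x ∈ I • (⊤ : Submodule A (P.X d)) →
      ∃ y, x - (P.d a c).hom y ∈ I • (⊤ : Submodule A (P.X c)) := by
    intro a c d hac hcd hc x hx
    have h0 : (G.d c d).hom (eta I (P.X c) x) = 0 := (eta_natural I (P.d c d) x).symm.trans (heta d _ hx)
    obtain ⟨z, hz⟩ := hexG a c d hac hcd hc _ h0
    obtain ⟨y, rfl⟩ := eta_surjective I (P.X a) z
    refine ⟨y, eta_ker I _ _ ?_⟩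
    have h1 : eta I (P.X c) ((P.d a c).hom y) = eta I (P.X c) x := (eta_natural I (P.d a c) y).trans hz
    rw [map_sub, h1, sub_self]
  -- flatness of the terms
  letI : ∀ i, Module R (P.X i) := fun i => Module.compHom (P.X i) (algebraMap R A)
  haveI : ∀ i, IsScalarTower R A (P.X i) := fun i => IsScalarTower.of_compHom R A (P.X i)
  haveI : ∀ i, Module.Flat R (P.X i) := fun i => Module.Flat.trans R A (P.X i)
  have hexP : ∀ a c d : ℤ, a + 1 = c → c + 1 = d → c ≠ 0 → ∀ x, (P.d c d).hom x = 0 →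
      ∃ y, (P.d a c).hom y = x := by
    intro a c d hac hcd hc x hx
    exact ((exact_and_flat (R := R) (P.d a c).hom (P.d c d).hom
      (LinearMap.ext fun y => LinearMap.congr_fun (congrArg ModuleCat.Hom.hom (P.d_comp_d a c d)) y)
      (hmod a c d hac hcd hc)).1 x).1 hx
  -- nothing above degree zero
  have hjac : maximalIdeal A ≤ Ideal.jacobson (⊥ : Ideal A) := (IsLocalRing.jacobson_eq_maximalIdeal ⊥ bot_ne_top).ge
  have habove : ∀ (k : ℕ) (i : ℤ), b - k < i → 0 < i → IsZero (P.X i) := by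
    intro k
    induction k with
    | zero => exact fun i hi _ => hb i (by omega)
    | succ k ih =>
      intro i hi h0
      by_cases hi' : b - k < i
      · exact ih i hi' h0
      have hnext : IsZero (P.X (i + 1)) := ih (i + 1) (by omega) (by omega)
      haveI := ModuleCat.subsingleton_of_isZero hnext
      have htop : (⊤ : Submodule A (P.X i)) ≤ maximalIdeal A • ⊤ := fun x _ => by
        obtain ⟨y, rfl⟩ := hexP (i - 1) i (i + 1) (by omega) rfl (by omega) x (Subsingleton.elim _ _)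
        exact hmin _ _ y
      have := Submodule.eq_bot_of_le_smul_of_le_jacobson_bot (maximalIdeal A) (⊤ : Submodule A (P.X i))
        Module.Finite.fg_top htop hjac
      haveI : Subsingleton (P.X i) := subsingleton_of_forall_eq 0 fun x => (Submodule.mem_bot A).1 (this.le trivial)
      exact ModuleCat.isZero_of_subsingleton _
  have hb0 : DRing.VanishesAbove P 0 := fun i hi => habove (b - i + 1).toNat i (by omega) hi
  obtain ⟨eM⟩ := nonempty_iso_inD P hb0 fun a c d hac hcd hc => hexP a c d hac hcd (by omega)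
  have hflatM : Module.Flat R (P.X 0 ⧸ LinearMap.range (P.d (-1) 0).hom) :=
    (exact_and_flat (R := R) (P.d (-2) (-1)).hom (P.d (-1) 0).hom
      (LinearMap.ext fun y => LinearMap.congr_fun (congrArg ModuleCat.Hom.hom (P.d_comp_d (-2) (-1) 0)) y)
      (hmod (-2) (-1) 0 (by omega) (by omega) (by omega))).2
  -- degree zero on the fibre
  have hGb : DRing.VanishesAbove G 0 := fun i hi => (ModuleCat.extendScalars _).map_isZero (hb0 i hi)
  obtain ⟨eMG⟩ := nonempty_iso_inD G hGb fun a c d hac hcd hc => hexG a c d hac hcd (by omega)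
  let θ := ((DerivedCategory.singleFunctor (ModuleCat.{u} Ab) 0).preimageIso (eMG.symm ≪≫ eG)).toLinearEquiv
  let M := P.X 0 ⧸ LinearMap.range (P.d (-1) 0).hom
  let φ : P.X 0 →ₛₗ[Ideal.Quotient.mk I] Ab ⧸ Ideal.ofList fbar :=
    { toFun := fun z => θ (Submodule.Quotient.mk (eta I (P.X 0) z))
      map_add' := fun x y => by rw [map_add, Submodule.Quotient.mk_add, map_add]
      map_smul' := fun a x => by rw [LinearMap.map_smulₛₗ, Submodule.Quotient.mk_smul, map_smul] }
  have hφsurj : Function.Surjective φ := fun w => by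
    obtain ⟨w', rfl⟩ := θ.surjective w
    obtain ⟨z, rfl⟩ := Submodule.mkQ_surjective _ w'
    obtain ⟨x, rfl⟩ := eta_surjective I (P.X 0) z
    exact ⟨x, rfl⟩
  have hφd : ∀ y, φ ((P.d (-1) 0).hom y) = 0 := fun y => by
    show θ (Submodule.Quotient.mk (eta I (P.X 0) ((P.d (-1) 0).hom y))) = 0
    rw [eta_natural]
    exact (congrArg θ ((Submodule.Quotient.mk_eq_zero _).2 ⟨_, rfl⟩)).trans (map_zero θ)
  have hφker : ∀ z, φ z = 0 → ∃ y, z - (P.d (-1) 0).hom y ∈ I • (⊤ : Submodule A (P.X 0)) := fun z hz => by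
    obtain ⟨w, hw⟩ := (Submodule.Quotient.mk_eq_zero _).1 (θ.map_eq_zero_iff.1 hz)
    obtain ⟨y, rfl⟩ := eta_surjective I (P.X (-1)) w
    refine ⟨y, eta_ker I _ _ ?_⟩
    have h1 : eta I (P.X 0) ((P.d (-1) 0).hom y) = eta I (P.X 0) z := (eta_natural I (P.d (-1) 0) y).trans hw
    rw [map_sub, h1, sub_self]
  obtain ⟨x0, hx0⟩ := hφsurj (Submodule.Quotient.mk 1)
  let N : Submodule A (P.X 0) := Submodule.span A {x0} ⊔ LinearMap.range (P.d (-1) 0).hom
  have hN : N = ⊤ := by
    refine top_le_iff.1 (Submodule.le_of_le_smul_of_le_jacobson_bot Module.Finite.fg_top hjac fun z _ => ?_)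
    obtain ⟨cb, hcb⟩ := Submodule.mkQ_surjective _ (φ z)
    obtain ⟨c, rfl⟩ := Ideal.Quotient.mk_surjective cb
    have h0 : φ (z - c • x0) = 0 := by
      rw [map_sub, LinearMap.map_smulₛₗ, hx0, ← hcb, Submodule.mkQ_apply, ← Submodule.Quotient.mk_smul, smul_eq_mul,
        mul_one, sub_self]
    obtain ⟨y, hy⟩ := hφker _ h0
    refine Submodule.mem_sup.2 ⟨c • x0 + (P.d (-1) 0).hom y,
      Submodule.add_mem_sup (Submodule.smul_mem _ _ (Submodule.mem_span_singleton_self x0)) ⟨y, rfl⟩,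
      z - c • x0 - (P.d (-1) 0).hom y, Submodule.smul_mono hIn le_rfl hy, by abel⟩
  let ρ₀ : A →ₗ[A] M := (LinearMap.range (P.d (-1) 0).hom).mkQ ∘ₗ LinearMap.toSpanSingleton A (P.X 0) x0
  have hdec : ∀ w ∈ I • (⊤ : Submodule A (P.X 0)), ∃ e ∈ I, ρ₀ e = (LinearMap.range (P.d (-1) 0).hom).mkQ w := by
    intro w hw
    refine Submodule.smul_induction_on hw (fun r hr m _ => ?_) fun v v' hv hv' => ?_
    · obtain ⟨u, hu, v, hv, huv⟩ := Submodule.mem_sup.1 (hN.ge (Submodule.mem_top (x := m)))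
      obtain ⟨c, rfl⟩ := Submodule.mem_span_singleton.1 hu
      refine ⟨r * c, I.mul_mem_right c hr, ?_⟩
      show (LinearMap.range (P.d (-1) 0).hom).mkQ ((r * c) • x0) = _
      rw [← huv, smul_add, map_add, Submodule.mkQ_apply _ (r • v),
        (Submodule.Quotient.mk_eq_zero _).2 (Submodule.smul_mem _ r hv), add_zero, mul_smul]
    · obtain ⟨e, he, hv⟩ := hv
      obtain ⟨e', he', hv'⟩ := hv'
      exact ⟨e + e', I.add_mem he he', by rw [map_add, hv, hv', map_add]⟩
  have hlift : ∀ f ∈ fbar, ∃ a : A, Ideal.Quotient.mk I a = f ∧ ρ₀ a = 0 := fun f hf => by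
    obtain ⟨a, rfl⟩ := Ideal.Quotient.mk_surjective f
    have h0 : φ (a • x0) = 0 := by
      rw [LinearMap.map_smulₛₗ, hx0, ← Submodule.Quotient.mk_smul, smul_eq_mul, mul_one]
      exact (Submodule.Quotient.mk_eq_zero _).2 (Ideal.subset_span hf)
    obtain ⟨y, hy⟩ := hφker _ h0
    obtain ⟨e, he, hρ⟩ := hdec _ hy
    refine ⟨a - e, by rw [map_sub, Ideal.Quotient.eq_zero_iff_mem.2 he, sub_zero], ?_⟩
    rw [map_sub, hρ, map_sub]
    show _ - (Submodule.Quotient.mk (a • x0) - Submodule.Quotient.mk _) = 0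
    rw [(Submodule.Quotient.mk_eq_zero _).2 (show (P.d (-1) 0).hom y ∈ LinearMap.range (P.d (-1) 0).hom from ⟨y, rfl⟩),
      sub_zero]
    exact sub_self _
  choose! F hF1 hF2 using hlift
  let fs := fbar.map F
  have hmapfs : fs.map (Ideal.Quotient.mk I) = fbar := by
    rw [List.map_map]
    exact (List.map_congr_left fun f hf => hF1 f hf).trans fbar.map_id
  have hle : Ideal.ofList fs ≤ LinearMap.ker ρ₀ := Ideal.span_le.2 fun a ha => by
    obtain ⟨f, hf, rfl⟩ := List.mem_map.1 ha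
    exact hF2 f hf
  let ρ : (A ⧸ Ideal.ofList fs) →ₗ[A] M := Submodule.liftQ (Ideal.ofList fs) ρ₀ hle
  have hρsurj : Function.Surjective ρ := fun m => by
    obtain ⟨z, rfl⟩ := Submodule.mkQ_surjective _ m
    obtain ⟨u, hu, v, hv, huv⟩ := Submodule.mem_sup.1 (hN.ge (Submodule.mem_top (x := z)))
    obtain ⟨c, rfl⟩ := Submodule.mem_span_singleton.1 hu
    refine ⟨Submodule.Quotient.mk c, ?_⟩
    show (LinearMap.range (P.d (-1) 0).hom).mkQ (c • x0) = _
    rw [← huv, map_add, Submodule.mkQ_apply _ v, (Submodule.Quotient.mk_eq_zero _).2 hv, add_zero]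
  obtain ⟨hρinj, hflatQ, -⟩ := injective_and_flat (R := R) ρ fun z hz => by
    obtain ⟨a, rfl⟩ := Submodule.mkQ_surjective _ z
    change ρ₀ a ∈ _ at hz
    have h1 : φ (a • x0) = 0 := by
      have hz' : (a • x0) ∈ (I • (⊤ : Submodule A (P.X 0))) ⊔ LinearMap.range (P.d (-1) 0).hom := by
        have : ρ₀ a ∈ (I • (⊤ : Submodule A (P.X 0))).map (LinearMap.range (P.d (-1) 0).hom).mkQ := by
          rw [Submodule.map_smul'', Submodule.map_top, Submodule.range_mkQ]; exact hz
        obtain ⟨u', hu', e⟩ := this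
        exact Submodule.mem_sup.2 ⟨u', hu', a • x0 - u', (Submodule.Quotient.eq _).1 e.symm, by abel⟩
      obtain ⟨u, hu, _, ⟨y, rfl⟩, huv⟩ := Submodule.mem_sup.1 hz'
      rw [← huv, map_add, hφd, add_zero]
      show θ (Submodule.Quotient.mk (eta I (P.X 0) u)) = 0
      rw [heta 0 u hu, Submodule.Quotient.mk_zero, map_zero]
    rw [LinearMap.map_smulₛₗ, hx0, ← Submodule.Quotient.mk_smul, smul_eq_mul, mul_one,
      Submodule.Quotient.mk_eq_zero, ← hmapfs, ← Ideal.map_ofList,
      Ideal.mem_map_iff_of_surjective _ Ideal.Quotient.mk_surjective] at h1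
    obtain ⟨c, hc, hca⟩ := h1
    have : (Ideal.ofList fs).mkQ a = (a - c) • (Ideal.ofList fs).mkQ 1 := by
      rw [← map_smul, smul_eq_mul, mul_one, map_sub, Submodule.mkQ_apply _ c, (Submodule.Quotient.mk_eq_zero _).2 hc,
        sub_zero]
    rw [this]
    exact Submodule.smul_mem_smul ((Ideal.Quotient.eq).1 hca.symm) trivial
  have hw : ∀ l : List A, IsWeaklyRegular Ab (l.map (Ideal.Quotient.mk I)) → IsWeaklyRegular A l := fun l hl => by
    refine isWeaklyRegular_of_fibre (R := R) l A ?_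
    refine ((Submodule.quotEquivOfEq _ _ (?_ : I • (⊤ : Submodule A A) = I)).isWeaklyRegular_congr l).2 ?_
    · rw [smul_eq_mul, Ideal.mul_top]
    · exact (isWeaklyRegular_map_algebraMap_iff Ab Ab l).1 hl
  have hregA : IsWeaklyRegular A fs := hw fs (by rw [hmapfs]; exact hreg.toIsWeaklyRegular)
  obtain ⟨-, ⟨eA⟩⟩ := Groth.L29.KoszulRes.exists_iso fs (hw fs.reverse (by rw [List.map_reverse, hmapfs]; exact hrev))
  refine ⟨fs, hmapfs, ⟨hregA, ?_⟩, ⟨?_⟩, hflatQ⟩
  · intro htop
    have h1 : (1 : A) ∈ Ideal.ofList fs := by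
      have : (1 : A) ∈ (⊤ : Submodule A A) := trivial
      rw [htop, smul_eq_mul, Ideal.mul_top] at this
      exact this
    refine (maximalIdeal.isMaximal A).ne_top ((Ideal.eq_top_iff_one _).2 (Ideal.span_le.2 ?_ h1))
    intro a ha
    obtain ⟨f, hf, rfl⟩ := List.mem_map.1 ha
    intro hu
    exact hmem f hf (hF1 f hf ▸ hu.map (Ideal.Quotient.mk I))
  · exact eP.symm ≪≫ eM ≪≫ (DerivedCategory.singleFunctor (ModuleCat.{u} A) 0).mapIso
      (LinearEquiv.ofBijective ρ ⟨hρinj, hρsurj⟩).symm.toModuleIso ≪≫ eA.symm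

end Groth.L29.LiftKoszul
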